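import Groth.Agent.H1Lim.ConstSys
import Groth.Agent.H1Lim.PushSys

/-!
# A criterion identifying the limit sheaf of a system of étale sheaves

`limDesc`: the map from the limit sheaf to a sheaf on the vertex; `isIso_of_stages`: it is an
isomorphism if sections over qcqs étale schemes come from stages and are killed at stages.
-/

set_option autoImplicit false
set_option backward.isDefEq.respectTransparency false
set_option backward.isDefEq.respectTransparency.types false

universe u

open CategoryTheory CategoryTheory.Limits AlgebraicGeometry Opposite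

namespace Groth.Agent.H14EtLim

open Groth.Agent.H1Lim Groth.Agent.H18Et Groth.Agent.H18Et.AffineCriterion
open scoped Groth.Agent.H18Et Groth.Agent.H18Et.CohColim

attribute [local instance] Groth.Agent.H18Et.pull_preservesFiniteLimits

variable {I : Type u} [SmallCategory I] {D : I ⥤ Scheme.{u}} (c : Cone D) [IsCofiltered I]

theorem toLim_eq_zero (P : Sys D) {i k : I} (a : k ⟶ i) (U : (D.obj i).Etale)
    (s : P.obj.obj (op ((incl i).obj U))) (h : P.obj.map (proj a U).op s = 0) :
    toLim c P i U s = 0 := by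
  apply sect_map_injective c ((limSheaf c).obj P) (proj a U)
  rw [map_zero]
  exact (toLim_naturality c P (proj a U) s).trans ((congrArg _ h).trans (map_zero _))

variable (hc : IsLimit c) [∀ ⦃a b : I⦄ (f : a ⟶ b), IsAffineHom (D.map f)]
  [∀ a, CompactSpace (D.obj a)] [∀ a, QuasiSeparatedSpace (D.obj a)]
  {T : EtCoh.Ab c.pt} (P : Sys D) (m : (limSheaf c).obj P ⟶ T)
  (hsurj : ∀ (i : I) (U : (D.obj i).Etale) [CompactSpace U.left] [QuasiSeparatedSpace U.left]
    (t : T.obj.obj (op ((toCone c).obj ((incl i).obj U)))),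
    ∃ (k : I) (a : k ⟶ i) (s : P.obj.obj (op ((incl k).obj ((EtCoh.bc (D.map a)).obj U)))),
      m.hom.app _ (toLim c P k _ s) = T.obj.map ((toCone c).map (proj a U)).op t)
  (hinj : ∀ (i : I) (U : (D.obj i).Etale) [CompactSpace U.left] [QuasiSeparatedSpace U.left]
    (s : P.obj.obj (op ((incl i).obj U))),
    m.hom.app _ (toLim c P i U s) = 0 → ∃ (k : I) (a : k ⟶ i), P.obj.map (proj a U).op s = 0)

include hc hsurj hinj

theorem bijective_of_stages (V : c.pt.Etale) [CompactSpace V.left] [QuasiSeparatedSpace V.left] :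
    Function.Bijective (m.hom.app (op V)) := by
  haveI : ∀ (p r : I) (f : p ⟶ r), IsAffineHom (D.map f) := fun p r f => inferInstance
  obtain ⟨i, U, _, _, ⟨e⟩⟩ := exists_descend_obj c hc V
  let L := (limSheaf c).obj P
  have hbc : ∀ {k : I} (a : k ⟶ i), CompactSpace ((EtCoh.bc (D.map a)).obj U).left ∧
      QuasiSeparatedSpace ((EtCoh.bc (D.map a)).obj U).left := fun a =>
    ⟨@H7Lim.compactSpace_pbDiagram_obj I _ D i U.left U.hom _ ‹_› (Over.mk a),
      @H7Lim.quasiSeparatedSpace_pbDiagram_obj I _ D i U.left U.hom _ ‹_› (Over.mk a)⟩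
  have hU : Function.Bijective (m.hom.app (op ((toCone c).obj ((incl i).obj U)))) := by
    refine ⟨(injective_iff_map_eq_zero _).2 fun σ hσ => ?_, fun t => ?_⟩
    · obtain ⟨j, a, s, hs⟩ := sect_surj c P hc U σ
      haveI : CompactSpace (bcObj a U).U.left := (hbc a).1
      haveI : QuasiSeparatedSpace (bcObj a U).U.left := (hbc a).2
      have h0 : m.hom.app _ (toLim c P j _ s) = 0 := by
        refine (congrArg _ hs.symm).trans ?_
        refine (NatTrans.naturality_apply m.hom ((toCone c).map (proj a U)).op σ).trans ?_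
        rw [hσ, map_zero]
      obtain ⟨k, b, hk⟩ := hinj j _ s h0
      apply sect_map_injective c L (proj a U)
      rw [map_zero]
      exact hs.trans (toLim_eq_zero c P b _ s hk)
    · obtain ⟨k, a, s, hs⟩ := hsurj i U t
      obtain ⟨σ, hσ⟩ := (ConcreteCategory.bijective_of_isIso (L.obj.map ((toCone c).map (proj a U)).op)).2
        (toLim c P k _ s)
      refine ⟨σ, sect_map_injective c T (proj a U) ?_⟩
      refine (NatTrans.naturality_apply m.hom ((toCone c).map (proj a U)).op σ).symm.trans ?_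
      exact (congrArg _ hσ).trans hs
  haveI : IsIso e.hom.op := inferInstance
  have b1 := ConcreteCategory.bijective_of_isIso (L.obj.map e.hom.op)
  have b2 := ConcreteCategory.bijective_of_isIso (T.obj.map e.hom.op)
  refine (Function.Bijective.of_comp_iff' b2 _).1 ?_
  have h3 : T.obj.map e.hom.op ∘ m.hom.app (op V) =
      m.hom.app (op ((toCone c).obj ((incl i).obj U))) ∘ L.obj.map e.hom.op :=
    funext fun x => (NatTrans.naturality_apply m.hom e.hom.op x).symm
  rw [h3]
  exact hU.comp b1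

theorem isIso_of_stages : IsIso m := by
  let L := (limSheaf c).obj P
  haveI : Mono m := Sheaf.mono_of_injective _ fun U => by
    refine (injective_iff_map_eq_zero _).2 fun s hs => sect_eq_zero_of_local L s fun x => ?_
    obtain ⟨W, hW, hxW, -⟩ := exists_isAffineOpen_mem_and_subset (x := x) (U := ⊤) trivial
    haveI : IsAffine (AffineCriterion.openObj U.unop W).left := hW
    refine ⟨AffineCriterion.openObj U.unop W, AffineCriterion.openHom U.unop W, ⟨⟨x, hxW⟩, rfl⟩, ?_⟩
    refine (bijective_of_stages c hc P m hsurj hinj (AffineCriterion.openObj U.unop W)).1 ?_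
    refine ((NatTrans.naturality_apply m.hom (AffineCriterion.openHom U.unop W).op s).trans ?_).trans
      (map_zero _).symm
    rw [hs, map_zero]
  haveI : Sheaf.IsLocallySurjective m := ⟨fun {U} t => mem_etale_iff.2 fun x => by
    obtain ⟨W, hW, hxW, -⟩ := exists_isAffineOpen_mem_and_subset (x := x) (U := ⊤) trivial
    haveI : IsAffine (AffineCriterion.openObj U W).left := hW
    obtain ⟨r, hr⟩ := (bijective_of_stages c hc P m hsurj hinj (AffineCriterion.openObj U W)).2
      (T.obj.map (AffineCriterion.openHom U W).op t)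
    exact ⟨AffineCriterion.openObj U W, AffineCriterion.openHom U W, ⟨x, hxW⟩, ⟨r, hr⟩, etale_of_hom _, rfl⟩⟩
  haveI : Epi m := Sheaf.epi_of_isLocallySurjective _
  exact isIso_of_mono_of_epi _

omit hsurj hinj in
/-- Cohomology of the limit, transported to a sheaf isomorphic to the limit sheaf. -/
theorem surj_inj_of_iso [IsIso m] (F : ∀ i, EtCoh.Ab (D.obj i)) (r : ∀ i, (res D i).obj P ≅ F i)
    (ε : ∀ k, (EtCoh.pull (c.π.app k)).obj (F k) ⟶ T)
    (hε : ∀ k, (coproj c k).app P ≫ m = (EtCoh.pull (c.π.app k)).map (r k).hom ≫ ε k)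
    (δ : ∀ {i k : I} (a : k ⟶ i), (EtCoh.pull (D.map a)).obj (F i) ⟶ F k)
    (hδ : ∀ {i k : I} (a : k ⟶ i), (trans a).app P ≫ (r k).hom = (EtCoh.pull (D.map a)).map (r i).hom ≫ δ a)
    (n : ℕ) :
    (∀ x : Sheaf.H T n, ∃ (k : I) (y : Sheaf.H (F k) n),
      Sheaf.H.map (ε k) n (hpull (c.π.app k) (F k) n y) = x) ∧
    (∀ (i : I) (y : Sheaf.H (F i) n), Sheaf.H.map (ε i) n (hpull (c.π.app i) (F i) n y) = 0 →
      ∃ (k : I) (a : k ⟶ i), Sheaf.H.map (δ a) n (hpull (D.map a) (F i) n y) = 0) := by
  have hHL : ∀ (k : I) (y : Sheaf.H ((res D k).obj P) n),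
      Sheaf.H.map m n (HLim c P k n y) =
        Sheaf.H.map (ε k) n (hpull (c.π.app k) (F k) n (Sheaf.H.map (r k).hom n y)) := fun k y =>
    (congrArg (Sheaf.H.map m n) (HLim_def c P k n y)).trans
      (H_map_Hpull (c.π.app k) (r k).hom _ m _ (hε k) n y)
  obtain ⟨hs, hi⟩ := surj_inj c hc n P
  refine ⟨fun x => ?_, fun i y hy => ?_⟩
  · obtain ⟨k, y, hy⟩ := hs (Sheaf.H.map (asIso m).inv n x)
    exact ⟨k, Sheaf.H.map (r k).hom n y,
      (hHL k y).symm.trans ((congrArg (Sheaf.H.map m n) hy).trans (H_map_inv_hom (asIso m) n x))⟩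
  · obtain ⟨k, a, ha⟩ := hi i (Sheaf.H.map (r i).inv n y) (by
      apply H_map_injective (asIso m) n
      refine (hHL i _).trans ?_
      rw [map_zero, H_map_inv_hom]
      exact hy)
    refine ⟨k, a, ?_⟩
    have h := H_map_Hpull (D.map a) (r i).hom _ _ _ (hδ a) n (Sheaf.H.map (r i).inv n y)
    have h2 := (congrArg (Sheaf.H.map (r k).hom n) ((HT_def P a n _).symm.trans ha)).symm.trans h
    rw [map_zero, H_map_inv_hom] at h2
    exact h2.symm

omit hsurj hinj hc

/-- The map from the limit sheaf given by compatible maps of the members. -/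
noncomputable def limDesc (Q : SysData D) (χ : ∀ k, Q.F k ⟶ (EtCoh.push (c.π.app k)).obj T)
    (hχ : ∀ {i k : I} (a : k ⟶ i) (U : (D.obj i).Etale) (s : (Q.F i).obj.obj (op U)),
      (χ k).hom.app (op ((EtCoh.bc (D.map a)).obj U)) ((Q.ψ a).hom.app (op U) s) =
        T.obj.map ((toCone c).map (proj a U)).op ((χ i).hom.app (op U) s)) :
    (limSheaf c).obj Q.toSys ⟶ T :=
  colimit.desc ((diag c).obj Q.toSys)
    ⟨T, { app := fun j => Q.termMap c χ j.unop
          naturality := fun _ _ f => (Q.delta_termMap c χ hχ f.unop).trans (Category.comp_id _).symm }⟩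

theorem coproj_limDesc (Q : SysData D) (χ : ∀ k, Q.F k ⟶ (EtCoh.push (c.π.app k)).obj T)
    (hχ : ∀ {i k : I} (a : k ⟶ i) (U : (D.obj i).Etale) (s : (Q.F i).obj.obj (op U)),
      (χ k).hom.app (op ((EtCoh.bc (D.map a)).obj U)) ((Q.ψ a).hom.app (op U) s) =
        T.obj.map ((toCone c).map (proj a U)).op ((χ i).hom.app (op U) s)) (k : I) :
    (coproj c k).app Q.toSys ≫ limDesc c Q χ hχ = Q.termMap c χ k :=
  colimit.ι_desc _ (op k)

theorem limDesc_toLim (Q : SysData D) (χ : ∀ k, Q.F k ⟶ (EtCoh.push (c.π.app k)).obj T)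
    (hχ : ∀ {i k : I} (a : k ⟶ i) (U : (D.obj i).Etale) (s : (Q.F i).obj.obj (op U)),
      (χ k).hom.app (op ((EtCoh.bc (D.map a)).obj U)) ((Q.ψ a).hom.app (op U) s) =
        T.obj.map ((toCone c).map (proj a U)).op ((χ i).hom.app (op U) s))
    (k : I) (W : (D.obj k).Etale) (s : (Q.F k).obj.obj (op W)) :
    (limDesc c Q χ hχ).hom.app _ (toLim c Q.toSys k W s) = (χ k).hom.app (op W) s :=
  (congrArg (fun φ : ((diag c).obj Q.toSys).obj (op k) ⟶ T =>
    φ.hom.app (op ((toCone c).obj ((incl k).obj W))) (unitS c Q.toSys k W s))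
    (coproj_limDesc c Q χ hχ k)).trans (Q.termMap_unitS c χ k W s)

end Groth.Agent.H14EtLim
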