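import Groth.Agent.H14EtLim.Crit
import Groth.Prelude.Def_EtLim

/-!
# Etale cohomology on a limit with values in a functor of schemes

For a sheaf `Φ` on the big étale site commuting with limits of qcqs schemes along affine maps, the
cohomology of its restriction to a limit is the colimit of the cohomology at the stages.
-/

set_option autoImplicit false
set_option backward.isDefEq.respectTransparency false
set_option backward.isDefEq.respectTransparency.types false

universe u

open CategoryTheory CategoryTheory.Limits AlgebraicGeometry Opposite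

namespace Groth.Agent.H14EtLim

open Groth.Agent.H1Lim
open scoped Groth.Agent.H18Et Groth.Agent.H18Et.CohColim

attribute [local instance] Groth.Agent.H18Et.pull_preservesFiniteLimits

/-- `Φ` commutes with cofiltered limits of qcqs schemes along affine maps. -/
def IsLimCompat (Φ : Scheme.{u}ᵒᵖ ⥤ AddCommGrpCat.{u + 1}) : Prop :=
  ∀ (J : Type u) [SmallCategory J] [IsCofiltered J] (D : J ⥤ Scheme.{u}) (c : Cone D), IsLimit c →
    (∀ ⦃a b : J⦄ (f : a ⟶ b), IsAffineHom (D.map f)) → (∀ a, CompactSpace (D.obj a)) →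
    (∀ a, QuasiSeparatedSpace (D.obj a)) →
    (∀ t : Φ.obj (op c.pt), ∃ (j : J) (s : Φ.obj (op (D.obj j))), Φ.map (c.π.app j).op s = t) ∧
    (∀ (j : J) (s : Φ.obj (op (D.obj j))), Φ.map (c.π.app j).op s = 0 →
      ∃ (k : J) (a : k ⟶ j), Φ.map (D.map a).op s = 0)

variable (Φ : Sheaf Scheme.etaleTopology.{u} AddCommGrpCat.{u + 1})

/-- The restriction of `Φ` to the small étale site of `X`. -/
noncomputable abbrev small (X : Scheme.{u}) : EtCoh.Ab X :=
  ((Scheme.Etale.forget X ⋙ Over.forget X).sheafPushforwardContinuous _ _ Scheme.etaleTopology).obj Φ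

/-- Functoriality in the scheme. -/
noncomputable def smallPush {X Y : Scheme.{u}} (u : X ⟶ Y) : small Φ Y ⟶ (EtCoh.push u).obj (small Φ X) :=
  ObjectProperty.homMk (Functor.whiskerRight (NatTrans.op (EtLim.bcProj u)) Φ.obj)

theorem smallPush_app {X Y : Scheme.{u}} (u : X ⟶ Y) (V : Y.Etale) (s : Φ.obj.obj (op V.left)) :
    (smallPush Φ u).hom.app (op V) s = Φ.obj.map (pullback.fst V.hom u).op s := rfl

variable {I : Type u} [SmallCategory I] (D : I ⥤ Scheme.{u})

/-- The system of restrictions of `Φ`. -/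
noncomputable def funSys : SysData D :=
  SysData.ofFamilies (fun i => small Φ (D.obj i)) (fun i k a => smallPush Φ (D.map a))
    (fun i j hj V s => by
      show Φ.obj.map (j V).left.op (Φ.obj.map (pullback.fst V.hom (D.map (𝟙 i))).op s) = s
      refine (Functor.map_comp_apply _ _ _ _).symm.trans ?_
      refine (congrArg (fun z => Φ.obj.map (Quiver.Hom.op z) s) (hj V)).trans ?_
      exact Functor.map_id_apply _ _ _)
    (fun i k l a b μ hμ V s => by
      show Φ.obj.map (pullback.fst ((EtCoh.bc (D.map a)).obj V).hom (D.map b)).op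
          (Φ.obj.map (pullback.fst V.hom (D.map a)).op s) =
        Φ.obj.map (μ V).left.op (Φ.obj.map (pullback.fst V.hom (D.map (b ≫ a))).op s)
      refine (Functor.map_comp_apply _ _ _ _).symm.trans (Eq.trans ?_ (Functor.map_comp_apply _ _ _ _))
      exact congrArg (fun z => Φ.obj.map (Quiver.Hom.op z) s) (hμ V).symm)

variable {D} (c : Cone D)

theorem funSys_compat {i k : I} (a : k ⟶ i) (U : (D.obj i).Etale) (s : Φ.obj.obj (op U.left)) :
    (smallPush Φ (c.π.app k)).hom.app (op ((EtCoh.bc (D.map a)).obj U))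
        (((funSys Φ D).ψ a).hom.app (op U) s) =
      (small Φ c.pt).obj.map ((toCone c).map (proj a U)).op ((smallPush Φ (c.π.app i)).hom.app (op U) s) := by
  show Φ.obj.map (pullback.fst ((EtCoh.bc (D.map a)).obj U).hom (c.π.app k)).op
      (Φ.obj.map (pullback.fst U.hom (D.map a)).op s) =
    Φ.obj.map ((toCone c).map (proj a U)).left.op (Φ.obj.map (pullback.fst U.hom (c.π.app i)).op s)
  refine (Functor.map_comp_apply _ _ _ _).symm.trans (Eq.trans ?_ (Functor.map_comp_apply _ _ _ _))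
  exact congrArg (fun z => Φ.obj.map (Quiver.Hom.op z) s) (toCone_map_fst c (proj a U)).symm

theorem toCone_proj_comp_pbCone {i k : I} (a : k ⟶ i) (U : (D.obj i).Etale) :
    ((toCone c).map (proj a U)).left ≫ (H7Lim.pbCone D c i U.hom).π.app (Over.mk a) =
      pullback.fst ((EtCoh.bc (D.map a)).obj U).hom (c.π.app k) := by
  refine pullback.hom_ext ?_ ?_
  · refine (Category.assoc _ _ _).trans ?_
    rw [show (H7Lim.pbCone D c i U.hom).π.app (Over.mk a) ≫ pullback.fst U.hom (D.map (Over.mk a).hom) =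
      pullback.fst U.hom (c.π.app i) from (pullback.lift_fst _ _ _).trans (Category.comp_id _)]
    exact toCone_map_fst c (proj a U)
  · refine (Category.assoc _ _ _).trans ?_
    rw [show (H7Lim.pbCone D c i U.hom).π.app (Over.mk a) ≫ pullback.snd U.hom (D.map (Over.mk a).hom) =
      pullback.snd U.hom (c.π.app i) ≫ c.π.app k from pullback.lift_snd _ _ _]
    refine (Category.assoc _ _ _).symm.trans ?_
    refine (congrArg (· ≫ c.π.app k) (toCone_map_snd c (proj a U))).trans ?_
    exact pullback.condition.symm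

variable [IsCofiltered I] (hc : IsLimit c) [∀ ⦃a b : I⦄ (f : a ⟶ b), IsAffineHom (D.map f)]
  [∀ a, CompactSpace (D.obj a)] [∀ a, QuasiSeparatedSpace (D.obj a)] (hΦ : IsLimCompat Φ.obj)

include hc hΦ in
theorem isIso_limDesc :
    IsIso (limDesc (T := small Φ c.pt) c (funSys Φ D) (fun k => smallPush Φ (c.π.app k)) (funSys_compat Φ c)) := by
  haveI : ∀ (p r : I) (f : p ⟶ r), IsAffineHom (D.map f) := fun p r f => inferInstance
  refine isIso_of_stages c hc _ _ ?_ ?_
  · intro i U _ _ t
    obtain ⟨j, s, hs⟩ := (hΦ (Over i) (H7Lim.pbDiagram D i U.hom) (H7Lim.pbCone D c i U.hom)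
      (H7Lim.isLimitPbCone D i U.hom hc)
      (fun a b f => @H7Lim.isAffineHom_pbDiagram_map I _ D i U.left U.hom _ a b f)
      (fun j => @H7Lim.compactSpace_pbDiagram_obj I _ D i U.left U.hom _ ‹_› j)
      (fun j => @H7Lim.quasiSeparatedSpace_pbDiagram_obj I _ D i U.left U.hom _ ‹_› j)).1 t
    refine ⟨j.left, j.hom, s, ?_⟩
    refine (limDesc_toLim c (funSys Φ D) _ _ j.left ((EtCoh.bc (D.map j.hom)).obj U) s).trans ?_
    show Φ.obj.map (pullback.fst ((EtCoh.bc (D.map j.hom)).obj U).hom (c.π.app j.left)).op s =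
      Φ.obj.map ((toCone c).map (proj j.hom U)).left.op t
    rw [← hs]
    refine Eq.trans ?_ (Functor.map_comp_apply _ _ _ _)
    exact congrArg (fun z => Φ.obj.map (Quiver.Hom.op z) s) (toCone_proj_comp_pbCone c j.hom U).symm
  · intro i U _ _ s hs
    replace hs : Φ.obj.map (pullback.fst U.hom (c.π.app i)).op s = 0 :=
      (limDesc_toLim c (funSys Φ D) _ _ i U s).symm.trans hs
    let s' : Φ.obj.obj (op (pullback U.hom (D.map (Over.mk (𝟙 i)).hom))) :=
      Φ.obj.map (pullback.fst U.hom (D.map (Over.mk (𝟙 i)).hom)).op s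
    have hs' : Φ.obj.map ((H7Lim.pbCone D c i U.hom).π.app (Over.mk (𝟙 i))).op s' = 0 := by
      refine (Functor.map_comp_apply _ _ _ _).symm.trans (Eq.trans ?_ hs)
      exact congrArg (fun z => Φ.obj.map (Quiver.Hom.op z) s)
        ((pullback.lift_fst _ _ _).trans (Category.comp_id _))
    obtain ⟨k, a, hk⟩ := (hΦ (Over i) (H7Lim.pbDiagram D i U.hom) (H7Lim.pbCone D c i U.hom)
      (H7Lim.isLimitPbCone D i U.hom hc)
      (fun a b f => @H7Lim.isAffineHom_pbDiagram_map I _ D i U.left U.hom _ a b f)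
      (fun j => @H7Lim.compactSpace_pbDiagram_obj I _ D i U.left U.hom _ ‹_› j)
      (fun j => @H7Lim.quasiSeparatedSpace_pbDiagram_obj I _ D i U.left U.hom _ ‹_› j)).2 _ s' hs'
    refine ⟨k.left, k.hom, ?_⟩
    refine ((funSys Φ D).map_proj k.hom U s).trans ?_
    refine Eq.trans ?_ hk
    show Φ.obj.map (pullback.fst U.hom (D.map k.hom)).op s =
      Φ.obj.map ((H7Lim.pbDiagram D i U.hom).map a).op
        (Φ.obj.map (pullback.fst U.hom (D.map (Over.mk (𝟙 i)).hom)).op s)
    refine Eq.trans ?_ (Functor.map_comp_apply _ _ _ _)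
    exact congrArg (fun z => Φ.obj.map (Quiver.Hom.op z) s)
      ((pullback.lift_fst _ _ _).trans (Category.comp_id _)).symm

/-- Pull back along `u`, then evaluate. -/
theorem HofPush_map {X Y : Scheme.{u}} (u : X ⟶ Y) [PreservesFiniteLimits (EtCoh.pull u)]
    {A : EtCoh.Ab Y} {B : EtCoh.Ab X} (φ : A ⟶ (EtCoh.push u).obj B) (n : ℕ) (y : EtCoh.H Y A n) :
    EtLim.HofPush u B n (((EtCoh.HF Y n).map φ).hom y) =
      Sheaf.H.map (((EtCoh.pullPushAdj u).homEquiv _ _).symm φ) n (hpull u A n y) := by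
  rw [Adjunction.homEquiv_counit, H_map_comp₀, ← Hpull_map]
  rfl

/-- Cohomology of `Φ` on a limit, surjectivity and injectivity. -/
theorem smallPush_surj_inj {I : Type u} [SmallCategory I] [IsCofiltered I] (D : I ⥤ Scheme.{u})
    (c : Cone D) (hc : IsLimit c) [∀ ⦃a b : I⦄ (f : a ⟶ b), IsAffineHom (D.map f)]
    [∀ a, CompactSpace (D.obj a)] [∀ a, QuasiSeparatedSpace (D.obj a)] (hΦ : IsLimCompat Φ.obj)
    [∀ a, PreservesFiniteLimits (EtCoh.pull (c.π.app a))]
    [∀ ⦃a b : I⦄ (f : a ⟶ b), PreservesFiniteLimits (EtCoh.pull (D.map f))] (n : ℕ) :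
    (∀ x : EtCoh.H c.pt (small Φ c.pt) n, ∃ (k : I) (y : EtCoh.H (D.obj k) (small Φ (D.obj k)) n),
      EtLim.HofPush (c.π.app k) (small Φ c.pt) n
        (((EtCoh.HF (D.obj k) n).map (smallPush Φ (c.π.app k))).hom y) = x) ∧
    (∀ (i : I) (y : EtCoh.H (D.obj i) (small Φ (D.obj i)) n),
      EtLim.HofPush (c.π.app i) (small Φ c.pt) n
        (((EtCoh.HF (D.obj i) n).map (smallPush Φ (c.π.app i))).hom y) = 0 →
      ∃ (k : I) (a : k ⟶ i), EtLim.HofPush (D.map a) (small Φ (D.obj k)) n
        (((EtCoh.HF (D.obj i) n).map (smallPush Φ (D.map a))).hom y) = 0) := by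
  haveI := isIso_limDesc Φ c hc hΦ
  obtain ⟨hs, hi⟩ := surj_inj_of_iso c hc _
    (limDesc (T := small Φ c.pt) c (funSys Φ D) (fun k => smallPush Φ (c.π.app k)) (funSys_compat Φ c))
    (fun i => small Φ (D.obj i)) (funSys Φ D).resIso
    (fun k => ((EtCoh.pullPushAdj (c.π.app k)).homEquiv _ _).symm (smallPush Φ (c.π.app k)))
    (fun k => coproj_limDesc c _ _ _ k)
    (fun {i k} a => ((EtCoh.pullPushAdj (D.map a)).homEquiv _ _).symm (smallPush Φ (D.map a)))
    (fun {i k} a => (funSys Φ D).trans_toSys a) n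
  refine ⟨fun x => ?_, fun i y hy => ?_⟩
  · obtain ⟨k, y, hy⟩ := hs x
    exact ⟨k, y, (HofPush_map (c.π.app k) (smallPush Φ (c.π.app k)) n y).trans hy⟩
  · obtain ⟨k, a, ha⟩ := hi i y ((HofPush_map (c.π.app i) (smallPush Φ (c.π.app i)) n y).symm.trans hy)
    exact ⟨k, a, (HofPush_map (D.map a) (smallPush Φ (D.map a)) n y).trans ha⟩

end Groth.Agent.H14EtLim
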