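import Groth.Agent.H14EtLim.FunSys

/-!
# Global functions and units of global functions commute with limits
-/

set_option autoImplicit false
set_option backward.isDefEq.respectTransparency false
set_option backward.isDefEq.respectTransparency.types false

universe u

open CategoryTheory CategoryTheory.Limits AlgebraicGeometry Opposite

namespace Groth.Agent.H14EtLim

theorem isLimCompat_ΓAdd : IsLimCompat EtCoh.ΓAdd.{u} := by
  intro J _ _ D c hc haff hcs hqs
  haveI : ∀ {a b : J} (f : a ⟶ b), IsAffineHom (D.map f) := fun f => haff f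
  haveI := hcs
  haveI := hqs
  refine ⟨fun t => ?_, fun j s hs => ?_⟩
  · obtain ⟨j, s, hs⟩ := exists_appTop_π_eq_of_isLimit D c hc (ULift.down t)
    exact ⟨j, ULift.up s, ULift.ext _ _ hs.symm⟩
  · obtain ⟨k, a, ha⟩ := exists_appTop_map_eq_zero_of_isLimit D c hc (ULift.down s)
      (congrArg ULift.down hs)
    exact ⟨k, a, ULift.ext _ _ ha⟩

/-- The unit underlying an element of `ΓUnits`. -/
noncomputable def toUnit {X : Scheme.{u}} (s : EtCoh.ΓUnits.obj (op X)) : (Γ(X, ⊤))ˣ :=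
  Additive.toMul (ULift.down s : Additive (Γ(X, ⊤))ˣ)

/-- The element of `ΓUnits` of a unit. -/
noncomputable def ofUnit {X : Scheme.{u}} (x : (Γ(X, ⊤))ˣ) : EtCoh.ΓUnits.obj (op X) :=
  ULift.up (Additive.ofMul x)

theorem toUnit_map {X Y : Scheme.{u}} (f : X ⟶ Y) (s : EtCoh.ΓUnits.obj (op Y)) :
    (toUnit (EtCoh.ΓUnits.map f.op s) : Γ(X, ⊤)) = f.appTop (toUnit s : Γ(Y, ⊤)) := rfl

theorem toUnit_ext {X : Scheme.{u}} {s t : EtCoh.ΓUnits.obj (op X)}
    (h : (toUnit s : Γ(X, ⊤)) = toUnit t) : s = t :=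
  ULift.ext _ _ (Additive.toMul.injective (Units.ext h))

theorem toUnit_zero (X : Scheme.{u}) : (toUnit (0 : EtCoh.ΓUnits.obj (op X)) : Γ(X, ⊤)) = 1 := rfl

theorem isLimCompat_ΓUnits : IsLimCompat EtCoh.ΓUnits.{u} := by
  intro J _ _ D c hc haff hcs hqs
  haveI : ∀ {a b : J} (f : a ⟶ b), IsAffineHom (D.map f) := fun f => haff f
  haveI := hcs
  haveI := hqs
  refine ⟨fun t => ?_, fun j s hs => ?_⟩
  · let u := toUnit t
    obtain ⟨i, a, ha⟩ := exists_appTop_π_eq_of_isLimit D c hc (u : Γ(c.pt, ⊤))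
    obtain ⟨i', b, hb⟩ := exists_appTop_π_eq_of_isLimit D c hc ((u⁻¹ : (Γ(c.pt, ⊤))ˣ) : Γ(c.pt, ⊤))
    let k := IsCofiltered.min i i'
    let a' : Γ(D.obj k, ⊤) := (D.map (IsCofiltered.minToLeft i i')).appTop a
    let b' : Γ(D.obj k, ⊤) := (D.map (IsCofiltered.minToRight i i')).appTop b
    have ea : (c.π.app k).appTop a' = (u : Γ(c.pt, ⊤)) := by
      refine Eq.trans ?_ ha.symm
      rw [← c.w (IsCofiltered.minToLeft i i')]
      rfl
    have eb : (c.π.app k).appTop b' = ((u⁻¹ : (Γ(c.pt, ⊤))ˣ) : Γ(c.pt, ⊤)) := by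
      refine Eq.trans ?_ hb.symm
      rw [← c.w (IsCofiltered.minToRight i i')]
      rfl
    have he : (c.π.app k).appTop (a' * b' - 1) = 0 := by
      rw [map_sub, map_mul, map_one, ea, eb, Units.mul_inv, sub_self]
    obtain ⟨l, f, hf⟩ := exists_appTop_map_eq_zero_of_isLimit D c hc _ he
    rw [map_sub, map_mul, map_one, sub_eq_zero] at hf
    refine ⟨l, ofUnit ⟨(D.map f).appTop a', (D.map f).appTop b', hf, (mul_comm _ _).trans hf⟩,
      toUnit_ext ?_⟩
    refine (toUnit_map (c.π.app l) _).trans ?_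
    show (c.π.app l).appTop ((D.map f).appTop a') = (u : Γ(c.pt, ⊤))
    refine Eq.trans ?_ ea
    rw [← c.w f]
    rfl
  · have he : (c.π.app j).appTop ((toUnit s : Γ(D.obj j, ⊤)) - 1) = 0 := by
      rw [map_sub, map_one, sub_eq_zero]
      refine (toUnit_map (c.π.app j) s).symm.trans ?_
      rw [hs]
      exact toUnit_zero _
    obtain ⟨l, f, hf⟩ := exists_appTop_map_eq_zero_of_isLimit D c hc _ he
    rw [map_sub, map_one, sub_eq_zero] at hf
    exact ⟨l, f, toUnit_ext ((toUnit_map (D.map f) s).trans (hf.trans (toUnit_zero _).symm))⟩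

end Groth.Agent.H14EtLim
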