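import Groth.Agent.H14EtLim.FunSys

/-!
# Cohomology of direct images on the stages of a limit
-/

set_option autoImplicit false
set_option backward.isDefEq.respectTransparency false
set_option backward.isDefEq.respectTransparency.types false

universe u

open CategoryTheory CategoryTheory.Limits AlgebraicGeometry Opposite

namespace Groth.Agent.H14EtLim

open Groth.Agent.H1Lim Groth.Agent.H1Lim.SysData
open scoped Groth.Agent.H18Et Groth.Agent.H18Et.CohColim

attribute [local instance] Groth.Agent.H18Et.pull_preservesFiniteLimits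

/-- The comparison of direct images along a factorisation, on sections. -/
theorem pushTransMap_app {X Xi Xj : Scheme.{u}} (uij : Xj ⟶ Xi) (uj : X ⟶ Xj) (ui : X ⟶ Xi)
    (w : uj ≫ uij = ui) (F : EtCoh.Ab X) (U : Xi.Etale)
    (l : (EtCoh.bc uj).obj ((EtCoh.bc uij).obj U) ⟶ (EtCoh.bc ui).obj U)
    (hl : l.left ≫ pullback.fst U.hom ui =
      pullback.fst ((EtCoh.bc uij).obj U).hom uj ≫ pullback.fst U.hom uij)
    (s : F.obj.obj (op ((EtCoh.bc ui).obj U))) :
    (((EtCoh.pushCongr w.symm).app F).hom ≫ (EtCoh.pushComp uij uj).inv.app F).hom.app (op U) s =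
      F.obj.map l.op s := by
  subst w
  let p : (EtCoh.bc uj).obj ((EtCoh.bc uij).obj U) ⟶ (EtCoh.bc (uj ≫ uij)).obj U :=
    (MorphismProperty.Over.pullbackComp (P := EtCoh.etaleMP) (Q := ⊤) uj uij).inv.app U
  let q : (EtCoh.bc (uj ≫ uij)).obj U ⟶ (EtCoh.bc uj).obj ((EtCoh.bc uij).obj U) :=
    (MorphismProperty.Over.pullbackComp (P := EtCoh.etaleMP) (Q := ⊤) uj uij).hom.app U
  let r : (EtCoh.bc (uj ≫ uij)).obj U ⟶ (EtCoh.bc (uj ≫ uij)).obj U :=
    (MorphismProperty.Over.pullbackCongr (P := EtCoh.etaleMP) (Q := ⊤) (rfl : uj ≫ uij = uj ≫ uij)).inv.app U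
  have hqp : q ≫ p = 𝟙 _ :=
    (MorphismProperty.Over.pullbackComp (P := EtCoh.etaleMP) (Q := ⊤) uj uij).hom_inv_id_app U
  have hpq : p ≫ q = 𝟙 _ :=
    (MorphismProperty.Over.pullbackComp (P := EtCoh.etaleMP) (Q := ⊤) uj uij).inv_hom_id_app U
  have hql : q ≫ l = 𝟙 _ := bc_hom_ext (uj ≫ uij) (by
    show (q.left ≫ l.left) ≫ pullback.fst U.hom (uj ≫ uij) = _
    rw [Category.assoc, hl]
    exact (MorphismProperty.Over.pullbackComp_left_fst_fst (P := EtCoh.etaleMP) (Q := ⊤) uj uij U).trans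
      (Category.id_comp _).symm)
  have hlp : l = p := by
    rw [← Category.id_comp l, ← hpq, Category.assoc, hql, Category.comp_id]
  subst hlp
  have e : (((EtCoh.pushCongr (rfl : uj ≫ uij = uj ≫ uij)).app F).hom ≫
      (EtCoh.pushComp uij uj).inv.app F).hom.app (op U) s = F.obj.map p.op (F.obj.map r.op s) := rfl
  refine e.trans ?_
  have hr : r = 𝟙 _ := by
    show (MorphismProperty.Over.pullbackCongr (P := EtCoh.etaleMP) (Q := ⊤)
      (rfl : uj ≫ uij = uj ≫ uij)).inv.app U = _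
    refine MorphismProperty.Over.Hom.ext (pullback.hom_ext ?_ ?_) <;>
      simp [MorphismProperty.Over.pullbackCongr] <;> rfl
  rw [hr]
  exact congrArg _ (Functor.map_id_apply _ _ _)

variable {I : Type u} [SmallCategory I] {D : I ⥤ Scheme.{u}} (c : Cone D) (G : EtCoh.Ab c.pt)

theorem trans_pushRes {i k : I} (a : k ⟶ i) :
    (trans a).app (pushSys c G) ≫ (pushRes c G k).hom =
      (EtCoh.pull (D.map a)).map (pushRes c G i).hom ≫
        ((EtCoh.pullPushAdj (D.map a)).homEquiv _ _).symm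
          (((EtCoh.pushCongr (c.w a).symm).app G).hom ≫ (EtCoh.pushComp (D.map a) (c.π.app k)).inv.app G) := by
  refine pull_hom_ext (D.map a) fun U s => ?_
  refine ((congrArg ((pushRes c G k).hom.hom.app _) (trans_unit a (pushSys c G) U s))).trans ?_
  let ψ := ((EtCoh.pullPushAdj (D.map a)).homEquiv _ _).symm
    (((EtCoh.pushCongr (c.w a).symm).app G).hom ≫ (EtCoh.pushComp (D.map a) (c.π.app k)).inv.app G)
  refine Eq.trans ?_ (congrArg (ψ.hom.app (op ((EtCoh.bc (D.map a)).obj U)))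
    (unit_map (D.map a) (pushRes c G i).hom U s)).symm
  refine Eq.trans ?_ (homEquiv_symm_unit (D.map a)
    (T := (EtCoh.push (c.π.app k)).obj G)
    (((EtCoh.pushCongr (c.w a).symm).app G).hom ≫ (EtCoh.pushComp (D.map a) (c.π.app k)).inv.app G)
    U _).symm
  exact (pushTransMap_app (D.map a) (c.π.app k) (c.π.app i) (c.w a) G U ((toCone c).map (proj a U))
    (toCone_map_fst c (proj a U)) _).symm

variable [IsCofiltered I]

theorem coproj_evalLim (k : I) :
    (coproj c k).app (pushSys c G) ≫ evalLim c G =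
      (EtCoh.pull (c.π.app k)).map (pushRes c G k).hom ≫ (EtCoh.pullPushAdj (c.π.app k)).counit.app G :=
  (colimit.ι_desc _ (op k)).trans (Adjunction.homEquiv_counit (EtCoh.pullPushAdj (c.π.app k)) _ _ _)

/-- Cohomology of the limit as the colimit of cohomology of direct images. -/
theorem push_surj_inj {I : Type u} [SmallCategory I] [IsCofiltered I] (D : I ⥤ Scheme.{u})
    (c : Cone D) (hc : IsLimit c) [∀ ⦃a b : I⦄ (f : a ⟶ b), IsAffineHom (D.map f)]
    [∀ a, CompactSpace (D.obj a)] [∀ a, QuasiSeparatedSpace (D.obj a)]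
    [∀ a, PreservesFiniteLimits (EtCoh.pull (c.π.app a))]
    [∀ ⦃a b : I⦄ (f : a ⟶ b), PreservesFiniteLimits (EtCoh.pull (D.map f))] (G : EtCoh.Ab c.pt) (n : ℕ) :
    (∀ x : EtCoh.H c.pt G n, ∃ (k : I) (y : EtCoh.H (D.obj k) ((EtCoh.push (c.π.app k)).obj G) n),
      EtLim.HofPush (c.π.app k) G n y = x) ∧
    (∀ (i : I) (y : EtCoh.H (D.obj i) ((EtCoh.push (c.π.app i)).obj G) n),
      EtLim.HofPush (c.π.app i) G n y = 0 →
      ∃ (k : I) (a : k ⟶ i),
        EtLim.HpushTrans (D.map a) (c.π.app k) (c.π.app i) (c.w a) G n y = 0) := by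
  haveI := isIso_evalLim c G hc
  obtain ⟨hs, hi⟩ := surj_inj_of_iso c hc (pushSys c G) (evalLim c G)
    (fun i => (EtCoh.push (c.π.app i)).obj G) (pushRes c G)
    (fun k => (EtCoh.pullPushAdj (c.π.app k)).counit.app G) (coproj_evalLim c G)
    (fun {i k} a => ((EtCoh.pullPushAdj (D.map a)).homEquiv _ _).symm
      (((EtCoh.pushCongr (c.w a).symm).app G).hom ≫ (EtCoh.pushComp (D.map a) (c.π.app k)).inv.app G))
    (fun {i k} a => trans_pushRes c G a) n
  refine ⟨fun x => ?_, fun i y hy => ?_⟩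
  · obtain ⟨k, y, hy⟩ := hs x
    exact ⟨k, y, hy⟩
  · obtain ⟨k, a, ha⟩ := hi i y hy
    exact ⟨k, a, (HofPush_map (D.map a) _ n y).trans ha⟩

end Groth.Agent.H14EtLim
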